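import Groth.Agent.PropsBasic.FPSections
import Groth.Agent.PropsBasic2.TildePullback
import Groth.Agent.LocFree.FP
import Groth.Agent.MiscGeom97.ClosedDescent

/-!
# fpqc descent of finite presentation of quasi-coherent modules
-/

universe u

set_option autoImplicit false
set_option backward.isDefEq.respectTransparency false
set_option linter.style.haveILetI false

open CategoryTheory Limits AlgebraicGeometry TopologicalSpace
open scoped TensorProduct

namespace Groth.Pi1FPDesc

/-- Finite presentation of modules descends along faithfully flat ring maps. -/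
theorem finitePresentation_of_faithfullyFlat {A : Type u} [CommRing A] (B : Type u) [CommRing B] [Algebra A B]
    [Module.FaithfullyFlat A B] (M : Type u) [AddCommGroup M] [Module A M]
    [Module.FinitePresentation B (B ⊗[A] M)] : Module.FinitePresentation A M := by
  haveI : Module.Finite A M := Module.Finite.of_finite_tensorProduct_of_faithfullyFlat B
  obtain ⟨n, φ, hφ⟩ := Module.Finite.exists_fin' A M
  refine Module.finitePresentation_of_surjective φ hφ ?_
  let i : LinearMap.ker φ →ₗ[A] (Fin n → A) := (LinearMap.ker φ).subtype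
  have hi : Function.Injective (i.baseChange B) :=
    Module.Flat.lTensor_preserves_injective_linearMap i (LinearMap.ker φ).injective_subtype
  have hex : Function.Exact (i.baseChange B) (φ.baseChange B) :=
    lTensor_exact B φ.exact_subtype_ker_map hφ
  have hfg : (LinearMap.range (i.baseChange B)).FG := by
    rw [← LinearMap.exact_iff.1 hex]
    exact Module.FinitePresentation.fg_ker _ (LinearMap.lTensor_surjective B hφ)
  haveI := Module.Finite.iff_fg.2 hfg
  haveI : Module.Finite B (B ⊗[A] LinearMap.ker φ) :=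
    Module.Finite.equiv (LinearEquiv.ofInjective (i.baseChange B) hi).symm
  exact Module.Finite.iff_fg.1 (Module.Finite.of_finite_tensorProduct_of_faithfullyFlat B)

variable {X : Scheme.{u}}

set_option maxHeartbeats 800000 in
/-- Being of finite presentation is invariant under isomorphisms. -/
theorem isFP_of_iso {M N : X.Modules} (e : M ≅ N) (hM : CohB1.IsFP M) : CohB1.IsFP N := by
  choose V hV P hP using Groth.QCohMod.exists_presentation_of_isFP M hM
  let r : ∀ x : X, M.restrict (V x).ι ≅ N.restrict (V x).ι := fun x =>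
    (Scheme.Modules.restrictFunctor (V x).ι).mapIso e
  haveI : ∀ x : X, IsIso (C := SheafOfModules.{u} _) (r x).hom := fun x =>
    inferInstanceAs (IsIso (r x).hom)
  refine Groth.QCohMod.isFP_of_cover N V (fun x => ⟨x, hV x⟩)
    (fun x => SheafOfModules.Presentation.ofIsIso.{u, u, u} (r x).hom (P x)) fun x => ?_
  exact ⟨⟨((hP x).isFiniteType_generators.finite : Finite (P x).generators.I)⟩,
    ⟨((hP x).isFiniteType_relations.finite : Finite (P x).relations.I)⟩⟩

/-- A quasi-coherent module on `Spec A` is of finite presentation if its pull back along a faithfully flat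
`A → B` is. -/
theorem isFP_of_pullback_specMap {A B : CommRingCat.{u}} (φ : A ⟶ B) [Flat (Spec.map φ)]
    [Surjective (Spec.map φ)] (G : (Spec A).Modules) [G.IsQuasicoherent]
    (h : CohB1.IsFP ((Scheme.Modules.pullback (Spec.map φ)).obj G)) :
    Module.FinitePresentation A (moduleSpecΓFunctor.obj G : ModuleCat A) := by
  haveI := (isQuasicoherent_iff_isIso_fromTildeΓ G).1 ‹_›
  let M : ModuleCat A := moduleSpecΓFunctor.obj G
  have hff : φ.hom.FaithfullyFlat :=
    (RingHom.FaithfullyFlat.iff_flat_and_comap_surjective).2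
      ⟨HasRingHomProperty.Spec_iff.1 ‹Flat (Spec.map φ)›, ‹Surjective (Spec.map φ)›.surj⟩
  have hT : CohB1.IsFP (tilde ((ModuleCat.extendScalars φ.hom).obj M)) :=
    isFP_of_iso ((Scheme.Modules.pullback (Spec.map φ)).mapIso (asIso G.fromTildeΓ).symm ≪≫
      (Groth.PropsBasic2.TildePullback.iso φ).app M) h
  have hBM := (Groth.PropsBasic.FPSections.isFP_tilde_iff _).1 hT
  letI := φ.hom.toAlgebra
  haveI : Module.FaithfullyFlat A B := hff
  haveI : Module.FinitePresentation B (B ⊗[A] M) := hBM
  exact finitePresentation_of_faithfullyFlat (A := A) B M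

/-- A quasi-coherent module is of finite presentation if its pull back along an fpqc morphism is. -/
theorem isFP_of_pullback {S' : Scheme.{u}} (g : S' ⟶ X) [Flat g] [Surjective g] [QuasiCompact g]
    (F : X.Modules) [F.IsQuasicoherent] (h : CohB1.IsFP ((Scheme.Modules.pullback g).obj F)) :
    CohB1.IsFP F := by
  refine Groth.LocFree.isFP_of_affine_cover F fun x => ?_
  obtain ⟨_, ⟨U, hU, rfl⟩, hxU, -⟩ :=
    X.isBasis_affineOpens.exists_subset_of_mem_open (Set.mem_univ x) isOpen_univ
  change X.Opens at U
  refine ⟨U, hU, hxU, ?_⟩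
  obtain ⟨X', f, _, _, _, -⟩ := Groth.Pi1Desc.exists_affine_over g hU
  let a : Spec Γ(X', ⊤) ⟶ X' := X'.isoSpec.inv
  let p : Spec Γ(X', ⊤) ⟶ Spec Γ(X, U) := a ≫ (f ≫ g ∣_ U) ≫ hU.isoSpec.hom
  let φ : Γ(X, U) ⟶ Γ(X', ⊤) := Spec.preimage p
  have hp : Spec.map φ = p := Spec.map_preimage p
  haveI : Flat (Spec.map φ) := by rw [hp]; infer_instance
  haveI : Surjective (Spec.map φ) := by rw [hp]; infer_instance
  have hfac : (a ≫ f ≫ (g ⁻¹ᵁ U).ι) ≫ g = Spec.map φ ≫ hU.fromSpec := by
    rw [hp]
    simp only [p, Category.assoc, IsAffineOpen.isoSpec_hom_fromSpec, morphismRestrict_ι]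
  haveI := IsAffineOpen.isOpenImmersion_fromSpec hU
  let G : (Spec Γ(X, U)).Modules := F.restrict hU.fromSpec
  haveI : G.IsQuasicoherent := Scheme.Modules.isQuasicoherent_restrictFunctor hU.fromSpec F
  let e : (Scheme.Modules.pullback (a ≫ f ≫ (g ⁻¹ᵁ U).ι)).obj ((Scheme.Modules.pullback g).obj F) ≅
      (Scheme.Modules.pullback (Spec.map φ)).obj G :=
    (Scheme.Modules.pullbackComp _ g).app F ≪≫ (Scheme.Modules.pullbackCongr hfac).app F ≪≫
      ((Scheme.Modules.pullbackComp (Spec.map φ) hU.fromSpec).app F).symm ≪≫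
      (Scheme.Modules.pullback (Spec.map φ)).mapIso
        ((Scheme.Modules.restrictFunctorIsoPullback hU.fromSpec).app F).symm
  haveI := isFP_of_pullback_specMap φ G
    (isFP_of_iso e (Groth.QCohMod.isFP_pullback _ _ h))
  let e' : (moduleSpecΓFunctor.obj G : ModuleCat Γ(X, U)) ≃ₗ[Γ(X, U)] Γ(F, U) :=
    { Groth.QCohMod.topEquiv hU F with
      map_smul' := fun r x => by
        have := Groth.QCohMod.secEquiv_smul hU F ⊤ (Groth.QCohMod.image_top_fromSpec hU) le_rfl r x
        rw [Groth.QCohMod.resFun_self] at this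
        exact this }
  exact Module.FinitePresentation.of_equiv e'

end Groth.Pi1FPDesc
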